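import Mathlib

/-! Splitting a point off a punctual ideal of the plane. -/

set_option autoImplicit false
set_option maxHeartbeats 1000000

universe u

open Polynomial

namespace Groth.Agent.SplitPoint15

variable {k : Type u} [Field k]

local notation "Pl" => MvPolynomial (Fin 2) k

/-- Restriction to the line where the `j`-th coordinate is `c`. -/
noncomputable def res (i : Fin 2) (c : k) : MvPolynomial (Fin 2) k →ₐ[k] k[X] :=
  MvPolynomial.aeval fun l => if l = i then Polynomial.X else Polynomial.C c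

/-- Polynomials in the `i`-th coordinate. -/
noncomputable def inc (i : Fin 2) : k[X] →ₐ[k] MvPolynomial (Fin 2) k :=
  Polynomial.aeval (MvPolynomial.X i)

theorem res_X_same (i : Fin 2) (c : k) : res i c (MvPolynomial.X i) = Polynomial.X := by
  simp [res]

theorem res_X_other {i j : Fin 2} (hij : j ≠ i) (c : k) :
    res i c (MvPolynomial.X j) = Polynomial.C c := by simp [res, hij]

theorem res_inc (i : Fin 2) (c : k) (q : k[X]) : res i c (inc i q) = q := by
  rw [inc, ← Polynomial.aeval_algHom_apply, res_X_same, Polynomial.aeval_X_left_apply]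

theorem sub_inc_res_dvd {i j : Fin 2} (hij : j ≠ i) (c : k) (g : Pl) :
    MvPolynomial.X j - MvPolynomial.C c ∣ g - inc i (res i c g) := by
  have hl : ∀ l : Fin 2, MvPolynomial.X j - MvPolynomial.C c ∣
      (MvPolynomial.X l : Pl) - inc i (res i c (MvPolynomial.X l)) := by
    intro l
    by_cases h : l = i
    · subst h; simp [res_X_same, inc]
    · obtain rfl : l = j := by omega
      simp [res_X_other hij, inc, MvPolynomial.algebraMap_eq]
  induction g using MvPolynomial.induction_on with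
  | C a => simp [res, inc, MvPolynomial.algebraMap_eq]
  | add a b ha hb =>
    rw [map_add, map_add, add_sub_add_comm]
    exact dvd_add ha hb
  | mul_X a l ha =>
    rw [map_mul, map_mul, show a * MvPolynomial.X l -
      inc i (res i c a) * inc i (res i c (MvPolynomial.X l)) =
      (a - inc i (res i c a)) * MvPolynomial.X l +
        inc i (res i c a) * (MvPolynomial.X l - inc i (res i c (MvPolynomial.X l))) by ring]
    exact dvd_add (ha.mul_right _) ((hl l).mul_left _)

theorem mem_span_point {i j : Fin 2} (hij : j ≠ i) (p : Fin 2 → k) {g : Pl}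
    (hg : (res i (p j) g).eval (p i) = 0) :
    g ∈ Ideal.span (Set.range fun l : Fin 2 => MvPolynomial.X l - MvPolynomial.C (p l)) := by
  set I := Ideal.span (Set.range fun l : Fin 2 => MvPolynomial.X l - MvPolynomial.C (p l))
  obtain ⟨s, hs⟩ := sub_inc_res_dvd hij (p j) g
  obtain ⟨q, hq⟩ := Polynomial.dvd_iff_isRoot.2 hg
  have : g = (MvPolynomial.X j - MvPolynomial.C (p j)) * s +
      (MvPolynomial.X i - MvPolynomial.C (p i)) * inc i q := by
    rw [← hs, hq, map_mul]
    simp [inc, MvPolynomial.algebraMap_eq]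
  rw [this]
  exact I.add_mem (I.mul_mem_right _ (Ideal.subset_span ⟨j, rfl⟩))
    (I.mul_mem_right _ (Ideal.subset_span ⟨i, rfl⟩))

theorem dvd_of_dvd_mul_line {i j : Fin 2} (hij : j ≠ i) (c : k) {f h : Pl}
    (hf : res i c f ≠ 0) (hd : f ∣ (MvPolynomial.X j - MvPolynomial.C c) * h) : f ∣ h := by
  obtain ⟨r, hr⟩ := hd
  have h0 := congrArg (res i c) hr
  rw [map_mul, map_mul, map_sub, res_X_other hij] at h0
  have hC : res i c (MvPolynomial.C c : Pl) = Polynomial.C c := by
    rw [← MvPolynomial.algebraMap_eq, AlgHom.commutes]; rfl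
  rw [hC, sub_self, zero_mul, eq_comm, mul_eq_zero] at h0
  obtain ⟨r', hr'⟩ := sub_inc_res_dvd hij c r
  rw [h0.resolve_left hf, map_zero, sub_zero] at hr'
  have hne : (MvPolynomial.X j - MvPolynomial.C c : Pl) ≠ 0 := by
    intro h'
    have := congrArg (res i (c + 1)) h'
    rw [map_sub, res_X_other hij, map_zero] at this
    have hC' : res i (c + 1) (MvPolynomial.C c : Pl) = Polynomial.C c := by
      rw [← MvPolynomial.algebraMap_eq, AlgHom.commutes]; rfl
    rw [hC', ← Polynomial.C_sub, Polynomial.C_eq_zero] at this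
    simp at this
  refine ⟨r', mul_left_cancel₀ hne ?_⟩
  rw [hr, hr']
  ring

theorem mem_span_origin {i j : Fin 2} (hij : j ≠ i) {g : Pl} (hg : (res i 0 g).eval 0 = 0) :
    g ∈ Ideal.span {(MvPolynomial.X 0 : Pl), MvPolynomial.X 1} := by
  refine Ideal.span_le.2 ?_ (mem_span_point hij (fun _ => 0) (g := g) hg)
  rintro _ ⟨l, rfl⟩
  simp only [map_zero, sub_zero]
  fin_cases l
  · exact Ideal.subset_span (Or.inl rfl)
  · exact Ideal.subset_span (Or.inr rfl)

theorem eq_top_of_eval_ne_zero {i j : Fin 2} (hij : j ≠ i) {𝔞 : Ideal Pl} {N : ℕ}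
    (hN : ∀ l, (MvPolynomial.X l : Pl) ^ N ∈ 𝔞) :
    ∀ I : Ideal Pl, 𝔞 ≤ I → ∀ g ∈ I, (res i 0 g).eval 0 ≠ 0 → I = ⊤ := by
  have hrad : Ideal.span {(MvPolynomial.X 0 : Pl), MvPolynomial.X 1} ≤ 𝔞.radical :=
    Ideal.span_le.2 (by rintro z (rfl | rfl) <;> exact ⟨N, hN _⟩)
  intro I hI g hg ha
  set a := (res i 0 g).eval 0
  have hm : MvPolynomial.C a - g ∈ Ideal.span {(MvPolynomial.X 0 : Pl), MvPolynomial.X 1} := by
    refine mem_span_origin hij ?_
    have hC : res i 0 (MvPolynomial.C a : Pl) = Polynomial.C a := by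
      rw [← MvPolynomial.algebraMap_eq, AlgHom.commutes]; rfl
    rw [map_sub, hC, Polynomial.eval_sub, Polynomial.eval_C]
    exact sub_self a
  obtain ⟨M, hM⟩ := hrad hm
  have h1 : (MvPolynomial.C a : Pl) ^ M - (MvPolynomial.C a - g) ^ M ∈ I := by
    obtain ⟨s, hs⟩ := sub_dvd_pow_sub_pow (MvPolynomial.C a : Pl) (MvPolynomial.C a - g) M
    rw [hs, sub_sub_cancel]
    exact I.mul_mem_right _ hg
  have h2 : (MvPolynomial.C a : Pl) ^ M ∈ I := by
    have := I.add_mem h1 (hI hM); rwa [sub_add_cancel] at this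
  exact Ideal.eq_top_of_isUnit_mem _ h2 (((isUnit_iff_ne_zero.2 ha).map MvPolynomial.C).pow M)

theorem exists_generator {i j : Fin 2} (hij : j ≠ i) {𝔞 : Ideal Pl} (hne : 𝔞 ≠ ⊤) {N : ℕ}
    (hN : ∀ l, (MvPolynomial.X l : Pl) ^ N ∈ 𝔞) :
    ∃ (n₀ : ℕ) (p f : Pl), 1 ≤ n₀ ∧ f = inc i (Polynomial.X ^ n₀) - MvPolynomial.X j * p ∧
      f ∈ 𝔞 ∧ (∀ c, (Polynomial.C c * res i c p).degree < (n₀ : WithBot ℕ)) ∧
      ∀ g ∈ 𝔞, ∃ (q : k[X]) (b : Pl), MvPolynomial.X j * b ∈ 𝔞 ∧
        g = MvPolynomial.X j * b + f * inc i q := by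
  classical
  set y : Pl := MvPolynomial.X j
  -- the order of contact with the line
  set J : Ideal k[X] := (𝔞 ⊔ Ideal.span {y}).comap (inc i)
  obtain ⟨d, hd⟩ := IsPrincipalIdealRing.principal J
  have hXJ : Polynomial.X ^ N ∈ J := by
    show inc i (Polynomial.X ^ N) ∈ 𝔞 ⊔ Ideal.span {y}
    rw [map_pow, inc, Polynomial.aeval_X]
    exact Ideal.mem_sup_left (hN i)
  have hdX : d ∣ Polynomial.X ^ N := Ideal.mem_span_singleton.1 (by rw [← Ideal.submodule_span_eq, ← hd]; exact hXJ)
  obtain ⟨n₀, -, hn₀⟩ := (dvd_prime_pow Polynomial.prime_X N).1 hdX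
  have hJ : ∀ q, inc i q ∈ 𝔞 ⊔ Ideal.span {y} ↔ Polynomial.X ^ n₀ ∣ q := fun q => by
    show q ∈ J ↔ _
    rw [hd, Ideal.submodule_span_eq, Ideal.mem_span_singleton, hn₀.dvd_iff_dvd_left]
  have hn0 : 1 ≤ n₀ := by
    by_contra hlt
    obtain rfl : n₀ = 0 := by omega
    have h1 : inc i 1 ∈ 𝔞 ⊔ Ideal.span {y} := (hJ 1).2 (by simp)
    rw [map_one] at h1
    obtain ⟨g, hg, z, hz, hgz⟩ := Submodule.mem_sup.1 h1
    obtain ⟨s, rfl⟩ := Ideal.mem_span_singleton'.1 hz
    refine hne (eq_top_of_eval_ne_zero hij hN 𝔞 le_rfl g hg ?_)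
    rw [eq_sub_of_add_eq hgz, map_sub, map_mul, map_one, res_X_other hij]
    simp
  obtain ⟨α, hα, β', hβ', hαβ⟩ := Submodule.mem_sup.1 ((hJ (Polynomial.X ^ n₀)).2 dvd_rfl)
  obtain ⟨β, rfl⟩ := Ideal.mem_span_singleton'.1 hβ'
  have hresy : ∀ c, res i c y = Polynomial.C c := res_X_other hij
  have key : ∀ m g, ∃ p : Pl, (∀ c, (res i c p).degree < (n₀ : WithBot ℕ)) ∧
      ∃ g', g - p - y ^ m * g' ∈ 𝔞 := by
    intro m
    induction m with
    | zero => exact fun g => ⟨0, fun c => by simp, g, by simp⟩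
    | succ m ih =>
      intro g
      obtain ⟨p, hp, g', hg'⟩ := ih g
      obtain ⟨s, hs⟩ := sub_inc_res_dvd hij (0 : k) g'
      rw [map_zero, sub_zero] at hs
      set g₀ := res i 0 g'
      set r := g₀ %ₘ (Polynomial.X ^ n₀)
      set q := g₀ /ₘ (Polynomial.X ^ n₀)
      have hg₀ : r + Polynomial.X ^ n₀ * q = g₀ := Polynomial.modByMonic_add_div g₀ _
      have hr : r.degree < (n₀ : WithBot ℕ) := by
        simpa using Polynomial.degree_modByMonic_lt g₀ (Polynomial.monic_X_pow n₀)
      refine ⟨p + y ^ m * inc i r, fun c => ?_, s + inc i q * β, ?_⟩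
      · rw [map_add, map_mul, map_pow, hresy, res_inc, ← Polynomial.C_pow]
        refine lt_of_le_of_lt (Polynomial.degree_add_le _ _) (max_lt (hp c) ?_)
        rcases eq_or_ne (c ^ m) 0 with h | h
        · rw [h, map_zero, zero_mul, Polynomial.degree_zero]; exact WithBot.bot_lt_coe _
        · rwa [Polynomial.degree_C_mul h]
      · have hg'eq : g' = inc i r + inc i (Polynomial.X ^ n₀) * inc i q + y * s := by
          rw [← map_mul, ← map_add, hg₀, ← hs]; ring
        have : g - (p + y ^ m * inc i r) - y ^ (m + 1) * (s + inc i q * β) =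
            (g - p - y ^ m * g') + y ^ m * inc i q * α := by
          rw [hg'eq, ← hαβ, pow_succ]; ring
        rw [this]
        exact 𝔞.add_mem hg' (𝔞.mul_mem_left _ hα)
  obtain ⟨p, hp, g', hpg⟩ := key N β
  have hpβ : β - p ∈ 𝔞 := by
    have := 𝔞.add_mem hpg (𝔞.mul_mem_right g' (hN j))
    rwa [sub_add_cancel] at this
  set f : Pl := inc i (Polynomial.X ^ n₀) - y * p with hfdef
  have hf : f ∈ 𝔞 := by
    have : f = α + y * (β - p) := by rw [hfdef, ← hαβ]; ring
    rw [this]; exact 𝔞.add_mem hα (𝔞.mul_mem_left _ hpβ)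
  have hdeg : ∀ c, (Polynomial.C c * res i c p).degree < (n₀ : WithBot ℕ) := fun c => by
    rcases eq_or_ne c 0 with h | h
    · rw [h, map_zero, zero_mul, Polynomial.degree_zero]; exact WithBot.bot_lt_coe _
    · rw [Polynomial.degree_C_mul h]; exact hp c
  have hresf : ∀ c, res i c f = Polynomial.X ^ n₀ - Polynomial.C c * res i c p := fun c => by
    rw [hfdef, map_sub, map_mul, res_inc, hresy]
  refine ⟨n₀, p, f, hn0, hfdef, hf, hdeg, fun g hg => ?_⟩
  obtain ⟨s, hs⟩ := sub_inc_res_dvd hij (0 : k) g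
  rw [map_zero, sub_zero] at hs
  obtain ⟨q, hq⟩ := (hJ (res i 0 g)).1 (by
    rw [show inc i (res i 0 g) = g - y * s by rw [← hs]; ring]
    exact sub_mem (Ideal.mem_sup_left hg)
      (Ideal.mem_sup_right (Ideal.mul_mem_right _ _ (Ideal.mem_span_singleton_self y))))
  have hb : g = y * (s + p * inc i q) + f * inc i q := by
    rw [hq, map_mul] at hs
    rw [hfdef]
    linear_combination hs
  refine ⟨q, s + p * inc i q, ?_, hb⟩
  rw [show y * (s + p * inc i q) = g - f * inc i q by linear_combination -hb]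
  exact 𝔞.sub_mem hg (𝔞.mul_mem_right _ hf)

theorem dvd_of_dvd_aeval_mul [IsAlgClosed k] {i j : Fin 2} (hij : j ≠ i) {f : Pl}
    (hfne : ∀ c, res i c f ≠ 0) :
    ∀ q : k[X], q ≠ 0 → ∀ h : Pl, f ∣ Polynomial.aeval (MvPolynomial.X j : Pl) q * h → f ∣ h := by
  set y : Pl := MvPolynomial.X j
  intro q
  induction hq : q.natDegree generalizing q with
  | zero =>
    intro hq0 h hd
    rw [Polynomial.eq_C_of_natDegree_eq_zero hq, Polynomial.aeval_C] at hd
    refine ((IsUnit.map (algebraMap k Pl) (isUnit_iff_ne_zero.2 ?_)).dvd_mul_left).1 hd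
    intro h0
    exact hq0 (by rw [Polynomial.eq_C_of_natDegree_eq_zero hq, h0, map_zero])
  | succ e ihe =>
    intro hq0 h hd
    obtain ⟨c, hc⟩ := IsAlgClosed.exists_root q (by
      rw [Polynomial.degree_eq_natDegree hq0, hq]; exact_mod_cast e.succ_ne_zero)
    obtain ⟨q', rfl⟩ := Polynomial.dvd_iff_isRoot.2 hc
    have hq' : q' ≠ 0 := right_ne_zero_of_mul hq0
    rw [map_mul, map_sub, Polynomial.aeval_X, Polynomial.aeval_C, MvPolynomial.algebraMap_eq,
      mul_assoc] at hd
    refine ihe q' ?_ hq' h (dvd_of_dvd_mul_line hij c (hfne c) hd)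
    rw [Polynomial.natDegree_mul (Polynomial.X_sub_C_ne_zero c) hq',
      Polynomial.natDegree_X_sub_C] at hq
    omega

theorem torsionFree [IsAlgClosed k] {i j : Fin 2} (hij : j ≠ i) {B : Ideal Pl} (hBne : B ≠ ⊤)
    {f : Pl} (hfB : f ∈ B) (hfne : ∀ c, res i c f ≠ 0) (𝔞' : Ideal Pl[X])
    (hmem : ∀ G, G ∈ 𝔞' ↔ ∃ b ∈ B.map Polynomial.C, ∃ r,
      (Polynomial.X - Polynomial.C (MvPolynomial.X j)) * b + r * Polynomial.C f = G)
    (q : k[X]) (hq0 : q ≠ 0) (G : Pl[X])
    (hin : q.map (algebraMap k Pl) * G ∈ 𝔞') : G ∈ 𝔞' := by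
  classical
  set y : Pl := MvPolynomial.X j
  set T : Pl[X] := Polynomial.X - Polynomial.C y
  set qq : Pl[X] := q.map (algebraMap k Pl)
  have hfB' := hfB
  have hlinefree := dvd_of_dvd_aeval_mul hij hfne
  obtain ⟨b, hb, r, hr⟩ := (hmem _).1 hin
  have he := congrArg (Polynomial.eval y) hr
  have hTy : T.eval y = 0 := by simp [T]
  have hqy : qq.eval y = Polynomial.aeval y q := by
    rw [Polynomial.eval_map, Polynomial.aeval_def]
  simp only [Polynomial.eval_add, Polynomial.eval_mul, hTy, zero_mul, zero_add,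
    Polynomial.eval_C, hqy] at he
  obtain ⟨r₀, hr₀⟩ := hlinefree q hq0 (G.eval y) ⟨r.eval y, by rw [← he, mul_comm]⟩
  obtain ⟨G₁, hG₁⟩ : T ∣ G - Polynomial.C (f * r₀) :=
    Polynomial.dvd_iff_isRoot.2 (by simp [Polynomial.IsRoot, hr₀])
  obtain ⟨r', hr'⟩ : T ∣ r - qq * Polynomial.C r₀ := by
    refine Polynomial.dvd_iff_isRoot.2 ?_
    have h1 : f * (r.eval y - Polynomial.aeval y q * r₀) = 0 := by
      linear_combination he + Polynomial.aeval y q * hr₀
    rcases mul_eq_zero.1 h1 with h | h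
    · exact absurd (by rw [h, map_zero]) (hfne 0)
    · simp [Polynomial.IsRoot, hqy, h]
  have hT0 : T ≠ 0 := Polynomial.X_sub_C_ne_zero y
  have hG₁' : qq * G₁ = b + r' * Polynomial.C f := by
    refine mul_left_cancel₀ hT0 ?_
    rw [map_mul] at hG₁
    linear_combination (-1 : Pl[X]) * hr - qq * hG₁ + Polynomial.C f * hr'
  have hfB : Polynomial.C f ∈ B.map Polynomial.C := Ideal.mem_map_of_mem _ hfB'
  have hG₁B : G₁ ∈ B.map Polynomial.C := by
    have h0 : qq * G₁ ∈ B.map Polynomial.C := by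
      rw [hG₁']; exact add_mem hb (Ideal.mul_mem_left _ _ hfB)
    rw [← Ideal.mk_ker (I := B), ← Polynomial.ker_mapRingHom, RingHom.mem_ker] at h0 ⊢
    rw [map_mul] at h0
    by_contra hne0
    haveI : Nontrivial (Pl ⧸ B) := Ideal.Quotient.nontrivial_iff.2 hBne
    have hlc : (Polynomial.mapRingHom (Ideal.Quotient.mk B) qq).leadingCoeff *
        (Polynomial.mapRingHom (Ideal.Quotient.mk B) G₁).leadingCoeff ≠ 0 := by
      have hu : IsUnit (Polynomial.mapRingHom (Ideal.Quotient.mk B) qq).leadingCoeff := by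
        rw [Polynomial.coe_mapRingHom, Polynomial.map_map,
          Polynomial.leadingCoeff_map_of_injective (RingHom.injective _)]
        exact (isUnit_iff_ne_zero.2 (Polynomial.leadingCoeff_ne_zero.2 hq0)).map _
      intro h
      exact hne0 (Polynomial.leadingCoeff_eq_zero.1 (hu.mul_right_eq_zero.1 h))
    rw [← Polynomial.leadingCoeff_mul' hlc, h0, Polynomial.leadingCoeff_zero] at hlc
    exact hlc rfl
  refine (hmem G).2 ⟨G₁, hG₁B, Polynomial.C r₀, ?_⟩
  rw [← hG₁, map_mul]
  ring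

theorem moduleFinite {i j : Fin 2} (hij : j ≠ i) {B : Ideal Pl} {n₀ N : ℕ} {p f : Pl}
    (hfdef : f = inc i (Polynomial.X ^ n₀) - MvPolynomial.X j * p)
    (hdeg : ∀ c, (Polynomial.C c * res i c p).degree < (n₀ : WithBot ℕ)) [Infinite k]
    (hNB : (MvPolynomial.X j : Pl) ^ N ∈ B) (𝔞' : Ideal Pl[X]) {S : Type u} [CommRing S] (π : Pl[X] →+* S)
    (hπs : Function.Surjective π) (hker : ∀ G ∈ 𝔞', π G = 0)
    (hmem : ∀ G, G ∈ 𝔞' ↔ ∃ b ∈ B.map Polynomial.C, ∃ r,
      (Polynomial.X - Polynomial.C (MvPolynomial.X j)) * b + r * Polynomial.C f = G) :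
    RingHom.Finite (π.comp (Polynomial.mapRingHom (algebraMap k Pl))) := by
  classical
  set x : Pl := MvPolynomial.X i
  set y : Pl := MvPolynomial.X j
  set T : Pl[X] := Polynomial.X - Polynomial.C y
  have hresy : ∀ c, res i c y = Polynomial.C c := res_X_other hij
  letI : Algebra k[X] S := (π.comp (Polynomial.mapRingHom (algebraMap k Pl))).toAlgebra
  show Module.Finite k[X] S
  rcases subsingleton_or_nontrivial S with hS | hS
  · infer_instance
  let ρ : Pl →+* S := π.comp (Polynomial.C : Pl →+* Pl[X])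
  have hρC : ∀ c : k, ρ (MvPolynomial.C c) =
      algebraMap k[X] S (Polynomial.C c) := fun c => by
    show π (Polynomial.C (MvPolynomial.C c)) =
      π (Polynomial.map _ (Polynomial.C c))
    rw [Polynomial.map_C]; rfl
  have hX : π Polynomial.X =
      algebraMap k[X] S Polynomial.X := by
    show _ = π (Polynomial.map _ Polynomial.X)
    rw [Polynomial.map_X]
  have hTρ : π T =
      algebraMap k[X] S Polynomial.X - ρ y := by rw [map_sub, hX]; rfl
  have hyint : IsIntegral k[X] (ρ y) := by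
    refine ⟨(Polynomial.X - Polynomial.C Polynomial.X) * Polynomial.X ^ N,
      (Polynomial.monic_X_sub_C _).mul (Polynomial.monic_X_pow _), ?_⟩
    have h0 : π (T * Polynomial.C (y ^ N)) = 0 :=
      hker _ ((hmem _).2 ⟨_, Ideal.mem_map_of_mem _ hNB, 0, by
        rw [zero_mul, add_zero]⟩)
    rw [map_mul, hTρ] at h0
    rw [← Polynomial.aeval_def, map_mul, map_sub, map_pow, Polynomial.aeval_X, Polynomial.aeval_C,
      ← map_pow ρ]
    linear_combination -h0
  have hxint : IsIntegral k[X] (ρ x) := by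
    set C' := integralClosure k[X] S
    -- polynomials in `y` are integral
    have hCy : ∀ c : k, ρ (MvPolynomial.C c) ∈ C' := fun c => by
      rw [hρC]; exact isIntegral_algebraMap
    -- `f` as a monic polynomial in `x`
    obtain ⟨F, hFm, hF⟩ : ∃ F : Polynomial C', F.Monic ∧
        Polynomial.eval₂ (algebraMap C' S) (ρ x) F = ρ f := by
      -- rewrite `p` with coefficients in `C'`
      let θ : Pl →+* Polynomial C' := MvPolynomial.eval₂Hom
        (Polynomial.C.comp ((ρ.comp MvPolynomial.C).codRestrict C'.toSubring hCy))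
        (fun l => if l = i then Polynomial.X else Polynomial.C ⟨ρ y, hyint⟩)
      have hθ : ∀ g, Polynomial.eval₂ (algebraMap C' S) (ρ x) (θ g) = ρ g := by
        intro g
        induction g using MvPolynomial.induction_on with
        | C a => simp [θ] <;> rfl
        | add a b ha hb => rw [map_add, Polynomial.eval₂_add, ha, hb, map_add]
        | mul_X a l ha =>
          rw [map_mul, Polynomial.eval₂_mul, ha, map_mul]
          congr 1
          by_cases h : l = i
          · subst h; simp [θ] <;> rfl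
          · obtain rfl : l = j := by omega
            simp [θ, h] <;> rfl
      refine ⟨Polynomial.X ^ n₀ - (θ (y * p)) %ₘ (Polynomial.X ^ n₀) -
        Polynomial.X ^ n₀ * ((θ (y * p)) /ₘ (Polynomial.X ^ n₀)), ?_, ?_⟩
      · have hdiv : (θ (y * p)) /ₘ (Polynomial.X ^ n₀) = 0 := by
          rw [Polynomial.divByMonic_eq_zero_iff (Polynomial.monic_X_pow n₀),
            Polynomial.degree_X_pow, Polynomial.degree_lt_iff_coeff_zero]
          intro m hm
          -- the coefficient of `x ^ m` in `y * p` vanishes on every horizontal line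
          let Θ : Pl →+* Polynomial k[X] := MvPolynomial.eval₂Hom
            (Polynomial.C.comp Polynomial.C)
            (fun l => if l = i then Polynomial.X else Polynomial.C Polynomial.X)
          have hΘ : ∀ (g : Pl) (c : k),
              (Θ g).map (Polynomial.evalRingHom c) = res i c g := by
            intro g c
            induction g using MvPolynomial.induction_on with
            | C a => simp [Θ, res]
            | add a b ha hb => rw [map_add, Polynomial.map_add, ha, hb, map_add]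
            | mul_X a l ha =>
              rw [map_mul, Polynomial.map_mul, ha, map_mul]
              congr 1
              by_cases h : l = i <;> simp [Θ, res, h]
          have hzero : (Θ (y * p)).coeff m = 0 := by
            refine Polynomial.funext fun c => ?_
            have h1 := congrArg (fun P : k[X] => P.coeff m) (hΘ (y * p) c)
            simp only [Polynomial.coeff_map, Polynomial.coe_evalRingHom] at h1
            rw [h1, Polynomial.eval_zero, map_mul, hresy]
            exact Polynomial.coeff_eq_zero_of_degree_lt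
              (lt_of_lt_of_le (hdeg c) (by exact_mod_cast hm))
          -- transport along `k[y] → C'`
          let κ : k[X] →+* C' := Polynomial.eval₂RingHom
            ((ρ.comp MvPolynomial.C).codRestrict C'.toSubring hCy) ⟨ρ y, hyint⟩
          have hκ : θ = (Polynomial.mapRingHom κ).comp Θ := by
            refine MvPolynomial.ringHom_ext (fun a => ?_) (fun l => ?_)
            · simp [θ, Θ, κ]
            · by_cases h : l = i <;> simp [θ, Θ, κ, h]
          rw [hκ, RingHom.comp_apply, Polynomial.coe_mapRingHom, Polynomial.coeff_map, hzero,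
            map_zero]
        rw [hdiv, mul_zero, sub_zero]
        exact Polynomial.monic_X_pow_sub (by
          simpa using Polynomial.degree_modByMonic_lt (θ (y * p)) (Polynomial.monic_X_pow n₀))
      · rw [sub_sub, Polynomial.modByMonic_add_div, Polynomial.eval₂_sub, hθ,
          Polynomial.eval₂_pow, Polynomial.eval₂_X, hfdef, map_sub]
        simp [inc, x]
    have h0 : ρ f = 0 := hker _
      ((hmem _).2 ⟨0, zero_mem _, 1, by rw [mul_zero, zero_add, one_mul]⟩)
    exact isIntegral_trans (A := C') (ρ x) ⟨F, hFm, hF.trans h0⟩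
  have hadj : Algebra.adjoin k[X] ({ρ x, ρ y} : Set S) = ⊤ := by
    set SS := Algebra.adjoin k[X] ({ρ x, ρ y} : Set S)
    have hA : ∀ g : Pl, ρ g ∈ SS := by
      intro g
      induction g using MvPolynomial.induction_on with
      | C a => rw [hρC]; exact SS.algebraMap_mem _
      | add a b ha hb => rw [map_add]; exact SS.add_mem ha hb
      | mul_X a l ha =>
        rw [map_mul]
        refine SS.mul_mem ha ?_
        by_cases h : l = i
        · subst h; exact Algebra.subset_adjoin (Or.inl rfl)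
        · obtain rfl : l = j := by omega
          exact Algebra.subset_adjoin (Or.inr rfl)
    rw [eq_top_iff]
    intro z hz
    clear hz
    obtain ⟨G, rfl⟩ := hπs z
    induction G using Polynomial.induction_on' with
    | add a b ha hb => rw [map_add]; exact SS.add_mem ha hb
    | monomial m a =>
      rw [← Polynomial.C_mul_X_pow_eq_monomial, map_mul, map_pow, hX]
      exact SS.mul_mem (hA a) (SS.pow_mem (SS.algebraMap_mem _) m)
  refine ⟨?_⟩
  rw [← Algebra.top_toSubmodule, ← hadj]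
  refine fg_adjoin_of_finite (Set.toFinite _) ?_
  rintro z (rfl | rfl)
  · exact hxint
  · exact hyint

theorem flat_of_noTorsion {R S : Type u} [CommRing R] [IsDomain R] [IsBezout R] [CommRing S]
    (φ : R →+* S) (h : ∀ q : R, q ≠ 0 → ∀ z : S, φ q * z = 0 → z = 0) : φ.Flat := by
  letI : Algebra R S := φ.toAlgebra
  show Module.Flat R S
  rw [Module.Flat.flat_iff_torsion_eq_bot_of_isBezout, Submodule.eq_bot_iff]
  rintro z ⟨⟨q, hq⟩, hqz⟩
  exact h q (nonZeroDivisors.ne_zero hq) z hqz

theorem flat_of_torsionFree (𝔞' : Ideal Pl[X])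
    (h : ∀ q : k[X], q ≠ 0 → ∀ G : Pl[X], q.map (algebraMap k Pl) * G ∈ 𝔞' → G ∈ 𝔞') :
    RingHom.Flat (R := k[X]) (S := Pl[X] ⧸ 𝔞')
      ((Ideal.Quotient.mk 𝔞').comp (Polynomial.mapRingHom (algebraMap k Pl))) := by
  refine flat_of_noTorsion _ fun q hq G hG => ?_
  obtain ⟨G, rfl⟩ := Ideal.Quotient.mk_surjective G
  rw [Ideal.Quotient.eq_zero_iff_mem]
  refine h q hq G ?_
  rw [← Ideal.Quotient.eq_zero_iff_mem, map_mul]
  exact hG

theorem exists_family [IsAlgClosed k] (i j : Fin 2) (hij : j ≠ i) (𝔞 : Ideal Pl)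
    (hne : 𝔞 ≠ ⊤) (N : ℕ) (hN : ∀ l, (MvPolynomial.X l : Pl) ^ N ∈ 𝔞)
    (hy : MvPolynomial.X j ∉ 𝔞) :
    ∃ 𝔞' : Ideal Pl[X],
      RingHom.Flat (R := k[X]) (S := Pl[X] ⧸ 𝔞')
        ((Ideal.Quotient.mk 𝔞').comp (Polynomial.mapRingHom (algebraMap k Pl))) ∧
      RingHom.Finite (A := k[X]) (B := Pl[X] ⧸ 𝔞') ((Ideal.Quotient.mk 𝔞').comp (Polynomial.mapRingHom (algebraMap k Pl))) ∧
      Ideal.map (Polynomial.evalRingHom (0 : Pl)) 𝔞' = 𝔞 ∧
      ∀ c : k, c ≠ 0 →
        Ideal.map (Polynomial.evalRingHom (MvPolynomial.C c)) 𝔞' ≤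
            Ideal.span {MvPolynomial.X 0, MvPolynomial.X 1} ∧
        ∃ p : Fin 2 → k, p ≠ 0 ∧
          Ideal.map (Polynomial.evalRingHom (MvPolynomial.C c)) 𝔞' ≤
            Ideal.span (Set.range (fun l : Fin 2 => MvPolynomial.X l - MvPolynomial.C (p l))) := by
  classical
  obtain ⟨n₀, p, f, hn0, hfdef, hf, hdeg, hgen⟩ := exists_generator hij hne hN
  set y : Pl := MvPolynomial.X j
  have hresy : ∀ c, res i c y = Polynomial.C c := res_X_other hij
  have hresf : ∀ c, res i c f = Polynomial.X ^ n₀ - Polynomial.C c * res i c p := fun c => by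
    rw [hfdef, map_sub, map_mul, res_inc, hresy]
  have hfne : ∀ c, res i c f ≠ 0 := fun c => by
    rw [hresf]
    exact (Polynomial.monic_X_pow_sub (hdeg c)).ne_zero
  have hroot : ∀ c, ∃ a, (res i c f).eval a = 0 := fun c => by
    obtain ⟨a, ha⟩ := IsAlgClosed.exists_root (res i c f) (by
      rw [hresf, Polynomial.degree_sub_eq_left_of_degree_lt (by simpa using hdeg c),
        Polynomial.degree_X_pow]
      exact_mod_cast (show n₀ ≠ 0 by omega))
    exact ⟨a, ha⟩
  set B : Ideal Pl := Submodule.comap (LinearMap.mulLeft Pl y) 𝔞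
  have hmemB : ∀ g, g ∈ B ↔ y * g ∈ 𝔞 := fun g => Iff.rfl
  have haB : 𝔞 ≤ B := fun g hg => (hmemB g).2 (𝔞.mul_mem_left _ hg)
  have hBne : B ≠ ⊤ := fun h => hy (by
    have := (hmemB 1).1 (h ▸ Submodule.mem_top); rwa [mul_one] at this)
  have hBm : B ≤ Ideal.span {(MvPolynomial.X 0 : Pl), MvPolynomial.X 1} := fun g hg => mem_span_origin hij (by
    by_contra h
    exact hBne (eq_top_of_eval_ne_zero hij hN B haB g hg h))
  set T : Pl[X] := Polynomial.X - Polynomial.C y
  set 𝔞' : Ideal Pl[X] := Ideal.span {T} * B.map Polynomial.C ⊔ Ideal.span {Polynomial.C f}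
  have hmem : ∀ G, G ∈ 𝔞' ↔ ∃ b ∈ B.map Polynomial.C, ∃ r, T * b + r * Polynomial.C f = G := by
    intro G
    simp only [𝔞', Submodule.mem_sup, Ideal.mem_span_singleton_mul, Ideal.mem_span_singleton']
    constructor
    · rintro ⟨_, ⟨b, hb, rfl⟩, _, ⟨r, rfl⟩, hG⟩; exact ⟨b, hb, r, hG⟩
    · rintro ⟨b, hb, r, hG⟩; exact ⟨_, ⟨b, hb, rfl⟩, _, ⟨r, rfl⟩, hG⟩
  have hmap : ∀ a : Pl, Ideal.map (Polynomial.evalRingHom a) 𝔞' =
      Ideal.span {a - y} * B ⊔ Ideal.span {f} := by
    intro a
    have hid : (Polynomial.evalRingHom a).comp Polynomial.C = RingHom.id Pl :=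
      RingHom.ext fun z => by simp
    simp only [𝔞', Ideal.map_sup, Ideal.map_mul, Ideal.map_span, Set.image_singleton,
      Ideal.map_map, hid, Ideal.map_id]
    simp [T]
  refine ⟨𝔞', ?_, moduleFinite (S := Pl[X] ⧸ 𝔞') hij hfdef hdeg (haB (hN j)) 𝔞' (Ideal.Quotient.mk 𝔞')
    Ideal.Quotient.mk_surjective (fun G hG => Ideal.Quotient.eq_zero_iff_mem.2 hG) hmem, ?_, fun c hc => ⟨?_, ?_⟩⟩
  · exact flat_of_torsionFree 𝔞' fun q hq0 G hin => torsionFree hij hBne (haB hf) hfne 𝔞' hmem q hq0 G hin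
  · rw [hmap]
    refine le_antisymm (sup_le (Ideal.span_singleton_mul_le_iff.2 fun z hz => ?_) ?_) fun g hg => ?_
    · rw [zero_sub, neg_mul]; exact neg_mem ((hmemB z).1 hz)
    · exact (Ideal.span_singleton_le_iff_mem _).2 hf
    · obtain ⟨q, b, hb, hgb⟩ := hgen g hg
      rw [show g = (0 - y) * (-b) + inc i q * f by linear_combination hgb]
      exact Submodule.add_mem_sup
        (Ideal.mul_mem_mul (Ideal.mem_span_singleton_self _) (B.neg_mem ((hmemB b).2 hb)))
        (Ideal.mem_span_singleton'.2 ⟨_, rfl⟩)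
  · rw [hmap]
    exact sup_le (Ideal.mul_le_right.trans hBm)
      ((Ideal.span_singleton_le_iff_mem _).2 ((haB.trans hBm) hf))
  · obtain ⟨a, ha⟩ := hroot c
    let P : Fin 2 → k := Function.update (fun _ => c) i a
    have hPj : P j = c := Function.update_of_ne hij _ _
    have hPi : P i = a := Function.update_self _ _ _
    refine ⟨P, fun h => hc (by rw [← hPj, h]; rfl), ?_⟩
    rw [hmap]
    refine sup_le ?_ ((Ideal.span_singleton_le_iff_mem _).2 (mem_span_point hij P (by
      rw [hPj, hPi]; exact ha)))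
    refine Ideal.mul_le_left.trans ((Ideal.span_singleton_le_iff_mem _).2 ?_)
    refine mem_span_point hij P ?_
    have hC : res i (P j) (MvPolynomial.C c : Pl) = Polynomial.C c := by
      rw [← MvPolynomial.algebraMap_eq, AlgHom.commutes]; rfl
    rw [map_sub, hC, hresy, hPj, sub_self, Polynomial.eval_zero]

end Groth.Agent.SplitPoint15
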